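import Groth.Prelude.Def_AbDual
import Groth.Agent.PicClLib.Basic

/-!
Base change of a scheme representing the fppf relative Picard sheaf.
-/

set_option autoImplicit false
set_option backward.isDefEq.respectTransparency false
universe u
open CategoryTheory CategoryTheory.Limits AlgebraicGeometry

namespace Groth.Agent.PicZeroK

/-- Base change of `IsRelPicK`. -/
theorem baseChange {X S S' : Scheme.{u}} (f : X ⟶ S) (g : S' ⟶ S)
    (P : Over S) (φ : ∀ T : Over S, PicF.Cl (PicF.XT f T) → (T ⟶ P)) (hP : AbDual.IsRelPicK Scheme.fppfPrecoverage f P φ) :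
    AbDual.IsRelPicK Scheme.fppfPrecoverage (pullback.snd f g) (Over.mk (pullback.snd P.hom g))
      (fun T c => Over.homMk
        (pullback.lift (φ (Over.mk (T.hom ≫ g)) (PicF.pullCl (pullbackLeftPullbackSndIso f g T.hom).inv c)).left T.hom
          (Over.w (φ (Over.mk (T.hom ≫ g)) (PicF.pullCl (pullbackLeftPullbackSndIso f g T.hom).inv c))))
        (pullback.lift_snd _ _ _)) := by
  let G : Over S' → Over S := fun T => Over.mk (T.hom ≫ g)
  let Gm : ∀ {T T' : Over S'}, (T' ⟶ T) → (G T' ⟶ G T) := fun h =>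
    Over.homMk h.left (by show h.left ≫ _ ≫ g = _ ≫ g; rw [← Category.assoc, Over.w h])
  let e : ∀ T : Over S', PicF.XT (pullback.snd f g) T ≅ PicF.XT f (G T) := fun T => pullbackLeftPullbackSndIso f g T.hom
  have hsq : ∀ {T T' : Over S'} (h : T' ⟶ T),
      (e T').hom ≫ PicF.XTmap f (Gm h) = PicF.XTmap (pullback.snd f g) h ≫ (e T).hom := by
    intro T T' h
    apply pullback.hom_ext <;> simp [e, G, Gm, PicF.XTmap, pullback.map]
  have hsq' : ∀ {T T' : Over S'} (h : T' ⟶ T) (c : PicF.Cl (PicF.XT (pullback.snd f g) T)),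
      PicF.pullCl (e T').inv (PicF.pullCl (PicF.XTmap (pullback.snd f g) h) c) =
        PicF.pullCl (PicF.XTmap f (Gm h)) (PicF.pullCl (e T).inv c) := by
    intro T T' h c
    rw [PicClLib.pullCl_comp, PicClLib.pullCl_comp]
    congr 1
    rw [Iso.inv_comp_eq, ← Category.assoc, hsq, Category.assoc, Iso.hom_inv_id, Category.comp_id]
  refine ⟨fun T T' h c hc => ?_, fun T gm => ?_, fun T c c' hc hc' hcc => ?_⟩
  · apply Over.OverMorphism.ext
    apply pullback.hom_ext
    · simp only [Over.homMk_left, Over.comp_left, Category.assoc, pullback.lift_fst]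
      have h1 := congrArg CommaMorphism.left
        (hP.natural (G T) (G T') (Gm h) (PicF.pullCl (e T).inv c) (PicClLib.isInvertibleCl_pullCl _ hc))
      rw [← hsq'] at h1
      exact h1
    · simp only [Over.homMk_left, Over.comp_left, Category.assoc, pullback.lift_snd]
      exact (Over.w h).symm
  · let g0 : G T ⟶ P := Over.homMk (gm.left ≫ pullback.fst P.hom g) (by
      show (gm.left ≫ pullback.fst P.hom g) ≫ P.hom = T.hom ≫ g
      rw [Category.assoc, pullback.condition, ← Category.assoc]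
      exact congrArg (· ≫ g) (Over.w gm))
    obtain ⟨R, hR, hc⟩ := hP.locallySurjective (G T) g0
    refine ⟨R, hR, fun U u hu => ?_⟩
    obtain ⟨c0, hc0, hφ⟩ := hc u hu
    let j : G (AbDual.ovr T u) ⟶ AbDual.ovr (G T) u :=
      Over.homMk (𝟙 _) (by show 𝟙 _ ≫ _ = _; rw [Category.id_comp]; exact (Category.assoc _ _ _).symm)
    refine ⟨PicF.pullCl (e (AbDual.ovr T u)).hom (PicF.pullCl (PicF.XTmap f j) c0),
      PicClLib.isInvertibleCl_pullCl _ (PicClLib.isInvertibleCl_pullCl _ hc0), ?_⟩
    apply Over.OverMorphism.ext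
    apply pullback.hom_ext
    · erw [pullback.lift_fst]
      show (φ (G (AbDual.ovr T u)) (PicF.pullCl (e (AbDual.ovr T u)).inv _)).left = _
      rw [PicClLib.pullCl_comp, Iso.inv_hom_id, PicClLib.pullCl_id, hP.natural _ _ j c0 hc0, hφ]
      show 𝟙 _ ≫ u ≫ gm.left ≫ pullback.fst P.hom g = _
      rw [Category.id_comp]
      exact (Category.assoc _ _ _).symm
    · erw [pullback.lift_snd]
      show (AbDual.ovr T u).hom = (u ≫ gm.left) ≫ pullback.snd P.hom g
      rw [Category.assoc]
      exact congrArg (u ≫ ·) (Over.w gm).symm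
  · have h1 : φ (G T) (PicF.pullCl (e T).inv c) = φ (G T) (PicF.pullCl (e T).inv c') := by
      apply Over.OverMorphism.ext
      have h2 := congrArg (fun x => x.left ≫ pullback.fst P.hom g) hcc
      simp only [Over.homMk_left] at h2
      erw [pullback.lift_fst, pullback.lift_fst] at h2
      exact h2
    obtain ⟨R, hR, hi⟩ := hP.locallyInjective (G T) _ _ (PicClLib.isInvertibleCl_pullCl _ hc)
      (PicClLib.isInvertibleCl_pullCl _ hc') h1
    refine ⟨R, hR, fun U u hu => ?_⟩
    let j : G (AbDual.ovr T u) ⟶ AbDual.ovr (G T) u :=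
      Over.homMk (𝟙 _) (by show 𝟙 _ ≫ _ = _; rw [Category.id_comp]; exact (Category.assoc _ _ _).symm)
    have hj : Gm (AbDual.ovrHom T u) = j ≫ AbDual.ovrHom (G T) u :=
      Over.OverMorphism.ext (Category.id_comp _).symm
    have h3 : ∀ d : PicF.Cl (PicF.XT (pullback.snd f g) T),
        PicF.pullCl (PicF.XTmap (pullback.snd f g) (AbDual.ovrHom T u)) d =
          PicF.pullCl (e _).hom (PicF.pullCl (PicF.XTmap f j)
            (PicF.pullCl (PicF.XTmap f (AbDual.ovrHom (G T) u)) (PicF.pullCl (e T).inv d))) := fun d => by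
      rw [PicClLib.pullCl_comp (PicF.XTmap f j), ← PicClLib.XTmap_comp, ← hj, ← hsq', PicClLib.pullCl_comp,
        Iso.hom_inv_id, PicClLib.pullCl_id]
    rw [h3, h3, hi u hu]

end Groth.Agent.PicZeroK
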