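import Groth.Agent.Lib.AbDualBase
import Groth.Agent.RelPicGrp.Basic

/-!
Points of the algebraically trivial part lie in the connected components of the origin.
-/

noncomputable section

set_option autoImplicit false
set_option linter.style.haveILetI false
set_option linter.unusedSectionVars false
set_option backward.isDefEq.respectTransparency false
set_option backward.isDefEq.respectTransparency.types false
set_option maxHeartbeats 1000000

universe u

open CategoryTheory CategoryTheory.Limits AlgebraicGeometry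

namespace Groth.Agent.PicZeroK

open Groth.Agent Groth.Agent.H23
open scoped Groth.Agent.H23.PicMul

variable {X S : Scheme.{u}} {f : X ⟶ S} {P P₀ : Over S}
  {φ : ∀ T : Over S, PicF.Cl (PicF.XT f T) → (T ⟶ P)} {φ₀ : ∀ T : Over S, PicF.Cl (PicF.XT f T) → (T ⟶ P₀)}
  (hP : AbDual.IsRelPicK Scheme.fppfPrecoverage f P φ) (hP₀ : AbDual.IsRelPicZeroK Scheme.fppfPrecoverage f P₀ φ₀)
  {j : P₀ ⟶ P} (hj : ∀ (T : Over S) (c : PicF.Cl (PicF.XT f T)), AbDual.IsPicZeroCl f T c → φ₀ T c ≫ j = φ T c)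

include hP in
theorem comp_phi_one {T T' : Over S} (g : T' ⟶ T) : g ≫ φ T 1 = φ T' 1 := by
  rw [← hP.natural T T' g 1 (RelPicGrp.isInvertibleCl_one _), PicMul.pullCl_one]

include hj in
theorem phi_one_mem (T : Over S) (t : T.left) : (φ T 1).left t ∈ Set.range j.left := by
  rw [← hj T 1 (AbDualBase.pz_one (A := Over.mk f) T)]
  exact ⟨(φ₀ T 1).left t, rfl⟩

theorem algEquiv_of_pz {Ω : Type u} [Field Ω] [IsAlgClosed Ω] (σ : Spec (CommRingCat.of Ω) ⟶ S)
    {c : PicF.Cl (PicF.XT f (Over.mk σ))} (h : AbDual.IsPicZeroCl f (Over.mk σ) c) :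
    ∃ L : (pullback f σ).Modules, PicF.cl L = c ∧
      @Pic13.IsAlgEquivZero Ω _ (pullback f σ) ⟨pullback.snd f σ⟩ L := by
  obtain ⟨L, rfl, hL, hLt⟩ := h
  haveI : Subsingleton ↥(Spec (CommRingCat.of Ω)) := inferInstanceAs (Subsingleton (PrimeSpectrum Ω))
  let p := PicF.XTproj f (Over.mk σ)
  have hr : Set.range (𝟙 (Spec (CommRingCat.of Ω)) : _ ⟶ _).base = {IsLocalRing.closedPoint Ω} :=
    Set.eq_singleton_iff_unique_mem.2 ⟨⟨_, rfl⟩, fun _ _ => Subsingleton.elim _ _⟩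
  have h0 := hLt (IsLocalRing.closedPoint Ω) Ω (𝟙 _) hr
  let e : pullback f σ ⟶ pullback p (𝟙 (Spec (CommRingCat.of Ω))) := pullback.lift (𝟙 _) p (by simp [p])
  refine ⟨L, rfl, @AVDual.algEquivZero_of_iso Ω _ _ ⟨pullback.snd f σ⟩ _ _ ?_
    (AVDual.algEquivZero_pullback _ (pullback.snd f σ) e (pullback.lift_snd _ _ _) h0)⟩
  exact (Scheme.Modules.pullbackComp _ _).app L ≪≫
    eqToIso (congrArg (fun m => (Scheme.Modules.pullback m).obj L) (pullback.lift_fst _ _ _)) ≪≫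
    (Scheme.Modules.pullbackId _).app L

include hP hP₀ hj in
/-- A geometric point of the algebraically trivial part is joined to the origin by a connected family. -/
theorem exists_connecting [IsOpenImmersion j.left] {Ω : Type u} [Field Ω] [IsAlgClosed Ω]
    (σ : Spec (CommRingCat.of Ω) ⟶ S) (g : Spec (CommRingCat.of Ω) ⟶ P.left) (hg : g ≫ P.hom = σ)
    (hgj : Set.range g ⊆ Set.range j.left) :
    ∃ (T : Scheme.{u}) (q : T ⟶ Spec (CommRingCat.of Ω)) (h : T ⟶ P.left)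
      (t t₀ : Spec (CommRingCat.of Ω) ⟶ T), ConnectedSpace T ∧ h ≫ P.hom = q ≫ σ ∧ t ≫ q = 𝟙 _ ∧ t₀ ≫ q = 𝟙 _ ∧
        t ≫ h = g ∧ t₀ ≫ h = (φ (Over.mk σ) 1).left := by
  let l := IsOpenImmersion.lift j.left g hgj
  let g₀ : Over.mk σ ⟶ P₀ := Over.homMk l (by
    show l ≫ P₀.hom = σ
    rw [← Over.w j, IsOpenImmersion.lift_fac_assoc, hg])
  obtain ⟨R, hR, hs⟩ := hP₀.locallySurjective (Over.mk σ) g₀
  obtain ⟨U, v, hv, s', hs'⟩ := AbDualBase.exists_section σ hR
  obtain ⟨c, hc, hcx⟩ := hs v hv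
  let c' := PicF.pullCl (PicF.XTmap f s') c
  have hc' : AbDual.IsPicZeroCl f (Over.mk σ) c' := AbDualBase.pz_xtMap (B := Over.mk f) s' hc
  have hφc : φ (Over.mk σ) c' = g₀ ≫ j := by
    rw [← hj _ c' hc', hP₀.natural _ _ s' c hc, hcx, ← Category.assoc s', hs', Category.id_comp]
  obtain ⟨L, hL, hLa⟩ := algEquiv_of_pz σ hc'
  letI : (pullback f σ).Over (Spec (CommRingCat.of Ω)) := ⟨pullback.snd f σ⟩
  obtain ⟨T, q, hT, -, -, M, hM, t, t₀, ht, ht₀, ⟨et⟩, ⟨et₀⟩⟩ := hLa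
  let W : Over S := Over.mk (q ≫ σ)
  let m : PicF.XT f W ⟶ Pic13.prodK Ω (pullback f σ) q :=
    pullback.lift (pullback.lift (pullback.fst f W.hom) (pullback.snd f W.hom ≫ q)
      (by rw [Category.assoc]; exact pullback.condition)) (pullback.snd f W.hom) (pullback.lift_snd _ _ _)
  let d := PicF.pullCl m (PicF.cl M)
  have hd : PicF.IsInvertibleCl d := RelPicGrp.isInvertibleCl_pull m ⟨M, rfl, hM⟩
  have key : ∀ (r : Spec (CommRingCat.of Ω) ⟶ T) (hr : r ≫ q = 𝟙 _) (hw : r ≫ W.hom = σ),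
      (Over.homMk r hw : Over.mk σ ⟶ W) ≫ φ W d =
        φ (Over.mk σ) (PicF.cl (Pic13.fibreMod Ω (pullback f σ) q r hr M)) := by
    intro r hr hw
    rw [← hP.natural _ _ _ d hd]
    refine congrArg (φ _) ?_
    show PicF.pullCl _ (PicF.pullCl m _) = _
    rw [PicClLib.pullCl_comp]
    refine congrArg (fun e => PicF.pullCl e (PicF.cl M)) ?_
    apply pullback.hom_ext
    · apply pullback.hom_ext
      · simp [m, PicF.XTmap, Pic13.sliceAt, pullback.map]
        exact (Category.id_comp _).symm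
      · simp [m, PicF.XTmap, Pic13.sliceAt, pullback.map, hr]
        exact (Category.id_comp _).symm
    · simp [m, PicF.XTmap, Pic13.sliceAt, pullback.map]
      rfl
  refine ⟨T, q, (φ W d).left, t, t₀, hT, Over.w (φ W d), ht, ht₀, ?_, ?_⟩
  · have hw : t ≫ W.hom = σ := by show t ≫ q ≫ σ = σ; rw [reassoc_of% ht]
    refine (congrArg CommaMorphism.left (key t ht hw)).trans ?_
    rw [show PicF.cl (Pic13.fibreMod Ω (pullback f σ) q t ht M) = c' from (PicMul.cl_eq_iff.2 ⟨et⟩).trans hL, hφc]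
    exact IsOpenImmersion.lift_fac j.left g hgj
  · have hw : t₀ ≫ W.hom = σ := by show t₀ ≫ q ≫ σ = σ; rw [reassoc_of% ht₀]
    refine (congrArg CommaMorphism.left (key t₀ ht₀ hw)).trans ?_
    rw [show PicF.cl (Pic13.fibreMod Ω (pullback f σ) q t₀ ht₀ M) = 1 from PicMul.cl_eq_iff.2 ⟨et₀⟩]

end Groth.Agent.PicZeroK

end
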