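import Groth.Agent.PicZeroK.BaseChange
import Groth.Agent.PicZeroK.Component
import Groth.Agent.PicZero.Grp
import Groth.Agent.PicSep.Main
import Groth.Agent.AVPic.RelPicOfFppf
import Groth.Agent.FppfPic.ExtendRegular
import Groth.Agent.EtFound.Descent
import Groth.Agent.S17906

/-!
Properness of the algebraically trivial part of the relative Picard scheme.
-/

noncomputable section

set_option autoImplicit false
set_option linter.style.haveILetI false
set_option linter.unusedSectionVars false
set_option backward.isDefEq.respectTransparency false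
set_option backward.isDefEq.respectTransparency.types false
set_option maxHeartbeats 1000000

universe u

open CategoryTheory CategoryTheory.Limits MonoidalCategory CartesianMonoidalCategory MonObj AlgebraicGeometry

namespace Groth.Agent.PicZeroK

open Groth.Agent Groth.Agent.H23
open scoped Groth.Agent.H23.PicMul

variable {X S : Scheme.{u}} (f : X ⟶ S) [IsProper f] [Smooth f] [GeometricallyConnected f] {P P₀ : Over S}
  {φ : ∀ T : Over S, PicF.Cl (PicF.XT f T) → (T ⟶ P)} {φ₀ : ∀ T : Over S, PicF.Cl (PicF.XT f T) → (T ⟶ P₀)}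
  (hP : AbDual.IsRelPicK Scheme.fppfPrecoverage f P φ) [IsSeparated P.hom] [LocallyOfFinitePresentation P.hom]
  (hP₀ : AbDual.IsRelPicZeroK Scheme.fppfPrecoverage f P₀ φ₀)
  (j : P₀ ⟶ P) [IsOpenImmersion j.left] [IsClosedImmersion j.left]
  (hj : ∀ (T : Over S) (c : PicF.Cl (PicF.XT f T)), AbDual.IsPicZeroCl f T c → φ₀ T c ≫ j = φ T c)

include hP hP₀ hj in
theorem isProper : IsProper P₀.hom := by
  haveI : Surjective f := inferInstance
  let f' : pullback f f ⟶ X := pullback.snd f f
  let σ' : X ⟶ pullback f f := pullback.diagonal f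
  have hσ' : σ' ≫ f' = 𝟙 X := pullback.diagonal_snd f
  haveI : IsProper f' := MorphismProperty.pullback_snd _ _ inferInstance
  haveI : Smooth f' := MorphismProperty.pullback_snd _ _ inferInstance
  haveI : GeometricallyConnected f' := MorphismProperty.pullback_snd _ _ inferInstance
  have hP' := baseChange f f P φ hP
  let P' : Over X := Over.mk (pullback.snd P.hom f)
  have hR := AVPic.isRelPic_of_fppf f' σ' hσ' (FppfPic.bijective_app_of_connected f' σ' hσ') hP'
  letI : GrpObj P' := RelPicGrp.grpObj hR
  let ρ : P'.left ⟶ P.left := pullback.fst P.hom f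
  haveI : LocallyOfFinitePresentation P'.hom := MorphismProperty.pullback_snd P.hom f inferInstance
  haveI : LocallyOfFiniteType P'.hom := inferInstance
  haveI : IsSeparated P'.hom := MorphismProperty.pullback_snd P.hom f inferInstance
  -- the origin
  let g0 : Over.mk f ⟶ Over.mk ((𝟙_ (Over X)).hom ≫ f) := Over.homMk (𝟙 X) (by
    show 𝟙 X ≫ 𝟙 X ≫ f = f
    simp)
  have hunit : η[P'].left ≫ ρ = (φ (Over.mk f) 1).left := by
    rw [MonObj.one_eq_one (M := P'), RelPicGrp.one_eq hR]
    refine (pullback.lift_fst _ _ _).trans ?_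
    rw [PicMul.pullCl_one]
    refine Eq.trans ?_ (congrArg CommaMorphism.left (comp_phi_one hP g0))
    exact (Category.id_comp _).symm
  have hclop : IsClopen (ρ ⁻¹' Set.range j.left) :=
    ⟨j.left.isClosedEmbedding.isClosed_range.preimage ρ.continuous,
      j.left.isOpenEmbedding.isOpen_range.preimage ρ.continuous⟩
  let N : P'.left.Opens := ⟨ρ ⁻¹' Set.range j.left, hclop.isOpen⟩
  have hunitmem : ∀ x : X, ρ (GrpSchLib.Neutral.unit P' x) ∈ Set.range j.left := fun x => by
    show ρ (η[P'].left x) ∈ _
    rw [← Scheme.Hom.comp_apply, hunit]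
    exact phi_one_mem hj (Over.mk f) x
  have hN : (N : Set P'.left) = SGA3x.neutralSet P' := by
    ext p
    rw [GrpSchLib.Neutral.mem_neutralSet_iff]
    constructor
    · intro hp
      let Ω := AlgebraicClosure (P'.left.residueField p)
      let g' : Spec (CommRingCat.of Ω) ⟶ P'.left :=
        Spec.map (CommRingCat.ofHom (algebraMap (P'.left.residueField p) Ω)) ≫ P'.left.fromSpecResidueField p
      have hg' : ∀ o, g' o = p := fun o => by
        rw [Scheme.Hom.comp_apply]; exact Scheme.fromSpecResidueField_apply _ _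
      let σ'' : Spec (CommRingCat.of Ω) ⟶ X := g' ≫ P'.hom
      obtain ⟨T, q, h, t, t₀, hT, hh, ht, ht₀, hth, ht₀h⟩ :=
        exists_connecting hP hP₀ hj (σ'' ≫ f) (g' ≫ ρ) (by
          show (g' ≫ ρ) ≫ P.hom = (g' ≫ pullback.snd P.hom f) ≫ f
          simp only [g', ρ, Category.assoc, pullback.condition])
          (by rintro _ ⟨o, rfl⟩; rw [Scheme.Hom.comp_apply, hg']; exact hp)
      let h' : T ⟶ P'.left := pullback.lift h (q ≫ σ'') (by rw [hh]; exact (Category.assoc _ _ _).symm)
      have h1 : t ≫ h' = g' := by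
        apply pullback.hom_ext
        · rw [Category.assoc, pullback.lift_fst]; exact hth
        · rw [Category.assoc, pullback.lift_snd, reassoc_of% ht]; rfl
      have h2 : t₀ ≫ h' = σ'' ≫ η[P'].left := by
        apply pullback.hom_ext
        · rw [Category.assoc, pullback.lift_fst, ht₀h, Category.assoc]
          show _ = σ'' ≫ η[P'].left ≫ ρ
          rw [hunit]
          exact (congrArg CommaMorphism.left (comp_phi_one hP
            (Over.homMk σ'' rfl : Over.mk (σ'' ≫ f) ⟶ Over.mk f))).symm
        · rw [Category.assoc, pullback.lift_snd, reassoc_of% ht₀, Category.assoc]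
          exact ((congrArg (σ'' ≫ ·) (Over.w η[P'])).trans (Category.comp_id _)).symm
      have hy : P'.hom p = σ'' (IsLocalRing.closedPoint Ω) := by
        rw [Scheme.Hom.comp_apply, hg']
      refine (isPreconnected_range h'.continuous).subset_connectedComponentIn
        ⟨t₀ (IsLocalRing.closedPoint Ω), ?_⟩ ?_ ⟨t (IsLocalRing.closedPoint Ω), ?_⟩
      · show h' (t₀ _) = η[P'].left (P'.hom p)
        rw [← Scheme.Hom.comp_apply, h2, Scheme.Hom.comp_apply, hy]
        rfl
      · rintro _ ⟨z, rfl⟩
        show P'.hom (h' z) = P'.hom p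
        rw [hy, ← Scheme.Hom.comp_apply, show h' ≫ P'.hom = q ≫ σ'' from pullback.lift_snd _ _ _,
          Scheme.Hom.comp_apply]
        haveI : Subsingleton ↥(Spec (CommRingCat.of Ω)) := inferInstanceAs (Subsingleton (PrimeSpectrum Ω))
        exact congrArg σ'' (Subsingleton.elim _ _)
      · rw [← Scheme.Hom.comp_apply, h1, hg']
    · intro hp
      exact isPreconnected_connectedComponentIn.subset_isClopen hclop
        ⟨_, mem_connectedComponentIn (GrpSchLib.Neutral.hom_unit P' _), hunitmem _⟩ hp
  haveI := Deform.Neutral.quasiCompact_neutral N hN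
  haveI hNp : IsProper (N.ι ≫ P'.hom) := PicZero.isProper_neutral (G := P') N hN fun s => by
    let σs := X.fromSpecResidueField s
    haveI : IsProper (pullback.snd f' σs) := MorphismProperty.pullback_snd _ _ inferInstance
    haveI : Smooth (pullback.snd f' σs) := MorphismProperty.pullback_snd _ _ inferInstance
    let π := pullback.fst P'.hom σs
    let W := π ⁻¹ᵁ N
    haveI : IsClosedImmersion W.ι := IsClosedImmersion.of_isPreimmersion W.ι (by
      rw [Scheme.Opens.range_ι]
      exact hclop.isClosed.preimage π.continuous)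
    haveI : LocallyOfFiniteType (pullback.snd P'.hom σs) := MorphismProperty.pullback_snd _ _ inferInstance
    haveI : LocallyOfFiniteType (W.ι ≫ (Over.mk (pullback.snd P'.hom σs)).hom) :=
      inferInstanceAs (LocallyOfFiniteType (W.ι ≫ pullback.snd P'.hom σs))
    have sq : IsPullback (π ∣_ N) (W.ι ≫ pullback.snd P'.hom σs) (N.ι ≫ P'.hom) σs :=
      (isPullback_morphismRestrict π N).paste_vert (IsPullback.of_hasPullback P'.hom σs).flip.flip
    haveI : QuasiCompact (W.ι ≫ (Over.mk (pullback.snd P'.hom σs)).hom) :=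
      MorphismProperty.of_isPullback sq inferInstance
    exact PicSep.isProper_closed (pullback.snd f' σs) (Groth.Agent.S17906.result f' σs P' _ hR) W.ι
  -- descent
  let m : pullback P₀.hom f ⟶ P'.left := ((Over.pullback f).map j).left
  haveI : IsClosedImmersion m := MorphismProperty.baseChange_map (P := @IsClosedImmersion) _ j ‹_›
  have hm : Set.range m ⊆ Set.range N.ι := by
    rintro _ ⟨z, rfl⟩
    rw [Scheme.Opens.range_ι]
    show ρ (m z) ∈ Set.range j.left
    rw [← Scheme.Hom.comp_apply, show m ≫ ρ = pullback.fst P₀.hom f ≫ j.left from pullback.lift_fst _ _ _,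
      Scheme.Hom.comp_apply]
    exact ⟨_, rfl⟩
  let l := IsOpenImmersion.lift N.ι m hm
  haveI : IsClosedImmersion (l ≫ N.ι) := by rw [IsOpenImmersion.lift_fac]; infer_instance
  haveI : IsClosedImmersion l := IsClosedImmersion.of_comp l N.ι
  haveI := EtFound.fpqc_isProper.{u}
  refine MorphismProperty.of_pullback_snd_of_descendsAlong (P := @IsProper) (Q := @Surjective ⊓ @Flat ⊓ @QuasiCompact)
    (f := P₀.hom) (g := f) ⟨⟨inferInstance, inferInstance⟩, inferInstance⟩ ?_
  have e : pullback.snd P₀.hom f = l ≫ N.ι ≫ P'.hom := by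
    rw [IsOpenImmersion.lift_fac_assoc]
    exact (Over.w ((Over.pullback f).map j)).symm
  rw [e]
  infer_instance

end Groth.Agent.PicZeroK

end
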